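import Groth.Agent.AVPtsLib.BC
import Groth.Agent.AVLib.Factor
import Groth.Agent.GrpQuotLib.Descend

/-!
# Dividing a homomorphism by an invertible integer
-/

set_option autoImplicit false
set_option backward.isDefEq.respectTransparency false

universe u

open CategoryTheory CategoryTheory.Limits MonoidalCategory CartesianMonoidalCategory MonObj AlgebraicGeometry

noncomputable section

namespace Groth.Agent.AVPtsLib

variable {k : Type u} [Field k] (K : Type u) [Field K] [Algebra k K]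
  {A : Over (Spec (CommRingCat.of k))} [GrpObj A]

theorem bc_pow (n : ℕ) : (Over.pullback (bcMap K)).map (𝟙 A ^ n) = (𝟙 (bcObj K A)) ^ n := by
  induction n with
  | zero => rw [pow_zero, pow_zero]; exact Functor.map_one _
  | succ n ih => rw [pow_succ, pow_succ, Functor.map_mul, ih, CategoryTheory.Functor.map_id]

variable [IsAlgClosed K] [IsProper A.hom] [GeometricallyIntegral A.hom] [IsCommMonObj A]
  {B : Over (Spec (CommRingCat.of k))} [GrpObj B] [IsProper B.hom] [GeometricallyIntegral B.hom] [IsCommMonObj B]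

/-- A homomorphism killing the `N`-torsion points in an algebraically closed extension is divisible by `N`. -/
theorem exists_divide (N : ℕ) (hN : (N : k) ≠ 0) (φ : A ⟶ B) [IsMonHom φ]
    (h : ∀ x : bcPt K ⟶ A, x ^ N = 1 → x ≫ φ = 1) :
    ∃ φ' : A ⟶ B, IsMonHom φ' ∧ φ = (𝟙 A ^ N) ≫ φ' := by
  have hN1 : 1 ≤ N := Nat.one_le_iff_ne_zero.2 fun e => hN (by simp [e])
  have hN' : (N : K) ≠ 0 := by
    rw [← map_natCast (algebraMap k K), ne_eq, map_eq_zero]
    exact hN
  obtain ⟨g, hg⟩ := AVLib.exists_dim (A := A)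
  obtain ⟨g', hg'⟩ := AVLib.exists_dim (A := bcObj K A)
  obtain ⟨hfin, hflat, -⟩ := AVLib.npow_spec hg N hN1
  haveI := AVLib.surjective_npow (A := A) N hN1
  haveI : IsMonHom (𝟙 A ^ N) := GrpSchLib.isMonHom_pow (𝟙 A) N
  haveI : SchDesc.IsFpqc (𝟙 A ^ N).left := SchDesc.IsFpqc.of_quasiCompact _
  haveI := AVLib.surjective_npow (A := bcObj K A) N hN1
  haveI := AVLib.etale_npow (A := bcObj K A) hg' N hN'
  haveI : IsMonHom (𝟙 (bcObj K A) ^ N) := GrpSchLib.isMonHom_pow (𝟙 (bcObj K A)) N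
  obtain ⟨ρ, ⟨-, hρ⟩, -⟩ := AVLib.existsUnique_hom_comp_eq (A := bcObj K A) (B := bcObj K B) (C := bcObj K A)
    (𝟙 (bcObj K A) ^ N) ((Over.pullback (bcMap K)).map φ) (fun P hP => by
      obtain ⟨x, rfl⟩ := (ptsEquiv (A := A) K).surjective P
      rw [← ptsEquiv_comp, h x, map_one]
      refine (ptsEquiv K).injective ?_
      rw [map_pow, map_one, AVLib.pow_eq_comp, hP])
  obtain ⟨φ', hφ'⟩ := GrpQuotLib.exists_desc (𝟙 A ^ N) φ fun T s t hst => by
    apply bc_map_injective K
    rw [Functor.map_comp, Functor.map_comp, ← hρ, ← bc_pow, ← Category.assoc, ← Category.assoc,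
      ← Functor.map_comp, ← Functor.map_comp, hst]
  refine ⟨φ', ?_, hφ'.symm⟩
  haveI := GrpQuotLib.epi_of_isFpqc (𝟙 A ^ N)
  set q := 𝟙 A ^ N
  refine ⟨?_, ?_⟩
  · rw [← IsMonHom.one_hom q, Category.assoc, hφ', IsMonHom.one_hom φ]
  · haveI : Epi (q ⊗ₘ q) := by
      rw [MonoidalCategory.tensorHom_def]
      haveI := GrpQuotLib.isFpqc_whiskerRight q A
      haveI := GrpQuotLib.isFpqc_whiskerLeft q A
      haveI := GrpQuotLib.epi_of_isFpqc (q ▷ A)
      haveI := GrpQuotLib.epi_of_isFpqc (A ◁ q)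
      exact epi_comp _ _
    rw [← cancel_epi (q ⊗ₘ q), ← IsMonHom.mul_hom_assoc q, hφ', IsMonHom.mul_hom φ,
      MonoidalCategory.tensorHom_comp_tensorHom_assoc, hφ']

end Groth.Agent.AVPtsLib
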