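import Groth.Agent.AVLib.TateKer
import Groth.Prelude.Def_AbDual

/-!
# Points of an abelian variety in an algebraically closed extension
-/

set_option autoImplicit false
set_option backward.isDefEq.respectTransparency false

universe u

open CategoryTheory CategoryTheory.Limits MonoidalCategory CartesianMonoidalCategory MonObj AlgebraicGeometry

noncomputable section

namespace Groth.Agent.AVPtsLib

variable {k : Type u} [Field k] (K : Type u) [Field K] [Algebra k K]

abbrev bcMap : Spec (CommRingCat.of K) ⟶ Spec (CommRingCat.of k) := Spec.map (CommRingCat.ofHom (algebraMap k K))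

abbrev bcPt : Over (Spec (CommRingCat.of k)) := Over.mk (bcMap (k := k) K)

variable (A : Over (Spec (CommRingCat.of k)))

abbrev bcObj : Over (Spec (CommRingCat.of K)) := (Over.pullback (bcMap K)).obj A

variable {A} [GrpObj A]

instance instGrpObjBcObj : GrpObj (bcObj K A) := Functor.grpObjObj (F := Over.pullback (bcMap K)) (G := A)

instance [IsProper A.hom] : IsProper (bcObj K A).hom := inferInstanceAs (IsProper (pullback.snd A.hom _))

instance [GeometricallyIntegral A.hom] : GeometricallyIntegral (bcObj K A).hom :=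
  inferInstanceAs (GeometricallyIntegral (pullback.snd A.hom _))

def unitIso : (Over.map (bcMap K)).obj (𝟙_ (Over (Spec (CommRingCat.of K)))) ≅ bcPt (k := k) K :=
  Over.isoMk (Iso.refl _) (by simp)

def ptsEquiv : (bcPt K ⟶ A) ≃* (𝟙_ (Over (Spec (CommRingCat.of K))) ⟶ bcObj K A) where
  toEquiv := ((unitIso K).homFromEquiv.symm).trans ((Over.mapPullbackAdj (bcMap K)).homEquiv _ A)
  map_mul' a b := by
    show (Over.mapPullbackAdj (bcMap K)).homEquiv _ A ((unitIso K).hom ≫ (a * b)) = _
    rw [MonObj.comp_mul, Adjunction.homEquiv_unit, Functor.map_mul, MonObj.comp_mul]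
    rfl

theorem ptsEquiv_comp {B : Over (Spec (CommRingCat.of k))} [GrpObj B] (x : bcPt K ⟶ A) (φ : A ⟶ B) :
    ptsEquiv K (x ≫ φ) = ptsEquiv K x ≫ (Over.pullback (bcMap K)).map φ := by
  show (Over.mapPullbackAdj (bcMap K)).homEquiv _ B ((unitIso K).hom ≫ x ≫ φ) =
    (Over.mapPullbackAdj (bcMap K)).homEquiv _ A ((unitIso K).hom ≫ x) ≫ _
  rw [← Category.assoc, Adjunction.homEquiv_naturality_right]

instance instIsCommMonObjBcObj [IsCommMonObj A] : IsCommMonObj (bcObj K A) :=
  inferInstanceAs (IsCommMonObj ((Over.pullback (bcMap K)).obj A))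

instance (B : Over (Spec (CommRingCat.of k))) [GrpObj B] (φ : A ⟶ B) [IsMonHom φ] :
    IsMonHom (M := bcObj K A) (N := bcObj K B) ((Over.pullback (bcMap K)).map φ) :=
  inferInstanceAs (IsMonHom ((Over.pullback (bcMap K)).map φ))

omit [GrpObj A] in
theorem bc_map_injective {B : Over (Spec (CommRingCat.of k))} {φ ψ : A ⟶ B}
    (h : (Over.pullback (bcMap K)).map φ = (Over.pullback (bcMap K)).map ψ) : φ = ψ := by
  haveI : Flat (bcMap (k := k) K) := (HasRingHomProperty.Spec_iff (P := @Flat)).2
    (RingHom.flat_algebraMap_iff.2 (inferInstance : Module.Flat k K))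
  haveI : Surjective (bcMap (k := k) K) :=
    ⟨fun x => ⟨IsLocalRing.closedPoint K, Subsingleton.elim (α := PrimeSpectrum k) _ _⟩⟩
  haveI : QuasiCompact (bcMap (k := k) K) := inferInstance
  haveI : Epi (pullback.fst A.hom (bcMap K)) := Flat.epi_of_flat_of_surjective _
  have h' := congrArg (fun m => m.left ≫ pullback.fst B.hom (bcMap K)) h
  simp only [Over.pullback_map_left, pullback.lift_fst] at h'
  ext1
  exact (cancel_epi (pullback.fst A.hom (bcMap K))).1 h'

variable [IsAlgClosed K] [IsProper A.hom] [GeometricallyIntegral A.hom] [IsCommMonObj A]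
  {B : Over (Spec (CommRingCat.of k))} [GrpObj B] [IsProper B.hom] [GeometricallyIntegral B.hom] [IsCommMonObj B]
  (l : ℕ) [Fact l.Prime]

omit [GrpObj B] [IsProper B.hom] [GeometricallyIntegral B.hom] [IsCommMonObj B] in
theorem exists_npow_eq (n : ℕ) (hn : 1 ≤ n) (a : bcPt K ⟶ A) : ∃ b : bcPt K ⟶ A, b ^ n = a := by
  obtain ⟨b, hb⟩ := AVLib.exists_npow_eq (A := bcObj K A) n hn (ptsEquiv K a)
  exact ⟨(ptsEquiv K).symm b, (ptsEquiv K).injective (by rw [map_pow, MulEquiv.apply_symm_apply, hb])⟩

omit [IsProper B.hom] [GeometricallyIntegral B.hom] in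
/-- A homomorphism killing the `l`-power torsion points in an algebraically closed extension is trivial. -/
theorem eq_one_of_torsion [IsProper B.hom] [GeometricallyIntegral B.hom] (hl : (l : k) ≠ 0) (φ : A ⟶ B) [IsMonHom φ]
    (h : ∀ (n : ℕ) (x : bcPt K ⟶ A), x ^ l ^ n = 1 → x ≫ φ = 1) : φ = 1 := by
  have hl' : (l : K) ≠ 0 := by
    rw [← map_natCast (algebraMap k K), ne_eq, map_eq_zero]
    exact hl
  refine bc_map_injective K (Eq.trans ?_ (Functor.map_one (Over.pullback (bcMap K))).symm)
  refine AVLib.eq_one_of_tateMap_eq_zero (A := bcObj K A) (B := bcObj K B) l hl' _ ?_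
  refine LinearMap.ext fun z => AbDual.TateMod.ext fun n => Additive.toMul.injective ?_
  obtain ⟨x, hx⟩ := (ptsEquiv (A := A) K).surjective
    (AbDual.TateMod.component (bcObj K A) l (𝟙_ (Over (Spec (CommRingCat.of K)))) n z).toMul
  show (AbDual.TateMod.component (bcObj K A) l (𝟙_ (Over (Spec (CommRingCat.of K)))) n z).toMul ≫
    (Over.pullback (bcMap K)).map φ = 1
  rw [← hx, ← ptsEquiv_comp, h n x, map_one]
  exact (ptsEquiv K).injective (by rw [map_pow, hx, map_one]; exact AbDual.TateMod.component_mem z n)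

omit [GrpObj B] [IsProper B.hom] [GeometricallyIntegral B.hom] [IsCommMonObj B] in
/-- Every torsion point extends to an element of the Tate module. -/
theorem exists_tate_lift (n : ℕ) (y : bcPt K ⟶ A) (hy : y ^ l ^ n = 1) :
    ∃ x : AbDual.TateMod A l (bcPt K), (AbDual.TateMod.component A l (bcPt K) n x).toMul = y := by
  obtain ⟨z, hz⟩ := AVLib.exists_tate_lift (A := bcObj K A) l n (Additive.ofMul (ptsEquiv K y))
    (congrArg Additive.ofMul (show ptsEquiv K y ^ l ^ n = 1 by rw [← map_pow, hy, map_one]))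
  let e := MonoidHom.toAdditive (ptsEquiv (A := A) K).symm.toMonoidHom
  refine ⟨⟨fun m => e (z.1 m), ⟨fun m => ?_, fun m => ?_⟩⟩, ?_⟩
  · rw [← map_nsmul, z.torsion m, map_zero]
  · rw [← map_nsmul, z.compat m]
  · show (ptsEquiv K).symm (AbDual.TateMod.component (bcObj K A) l (𝟙_ (Over (Spec (CommRingCat.of K)))) n z).toMul = y
    rw [hz]
    exact (ptsEquiv K).symm_apply_apply y

theorem eq_one_of_tateMapₗ_eq_zero (hl : (l : k) ≠ 0) (φ : A ⟶ B) [IsMonHom φ]
    (h : AbDual.tateMapₗ (l := l) (T := bcPt K) φ = 0) : φ = 1 :=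
  eq_one_of_torsion K l hl φ fun n x hx => by
    obtain ⟨z, hz⟩ := exists_tate_lift K l n x hx
    rw [← hz]
    exact congrArg (fun f => (AbDual.TateMod.component B l (bcPt K) n (f z)).toMul) h

end Groth.Agent.AVPtsLib
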