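import Groth.Agent.AVLib.TateKer

/-!
# A closed subgroup containing the prime-power torsion is everything
-/

set_option autoImplicit false
set_option backward.isDefEq.respectTransparency false

universe u

open CategoryTheory CategoryTheory.Limits MonoidalCategory CartesianMonoidalCategory MonObj AlgebraicGeometry

noncomputable section

namespace Groth.Agent.AVPtsLib

open GrpSchLib (unitPt idComp)

variable {K : Type u} [Field K] [IsAlgClosed K] (l : ℕ) [hl : Fact l.Prime]
  {A : Over (Spec (CommRingCat.of K))} [GrpObj A] [IsProper A.hom] [GeometricallyIntegral A.hom] [IsCommMonObj A]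

theorem surjective_of_torsion (hl0 : (l : K) ≠ 0) {N : Over (Spec (CommRingCat.of K))} [GrpObj N] (a : N ⟶ A)
    [IsMonHom a] [IsClosedImmersion a.left]
    (h : ∀ (n : ℕ) (y : 𝟙_ (Over (Spec (CommRingCat.of K))) ⟶ A), y ^ l ^ n = 1 → ∃ p, p ≫ a = y) :
    Surjective a.left := by
  haveI : IsProper N.hom := by rw [← Over.w a]; infer_instance
  obtain ⟨N₀, hN₀, i, hi, hici, hN₀p, hN₀g, hr⟩ := AVLib.exists_idSubgroup (G := N)
  letI := hN₀
  haveI := hi
  haveI := hici
  haveI := hN₀p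
  haveI := hN₀g
  haveI : IsCommMonObj N₀ := isCommMonObj_of_isProper_of_geometricallyIntegral N₀
  let j : N₀ ⟶ A := i ≫ a
  haveI : IsClosedImmersion j.left := inferInstanceAs (IsClosedImmersion (i.left ≫ a.left))
  haveI : Mono j := (Over.forget _).mono_of_mono_map (show Mono j.left from inferInstance)
  haveI : IsMonHom j := inferInstanceAs (IsMonHom (i ≫ a))
  obtain ⟨g, hg⟩ := AVLib.exists_dim (A := A)
  obtain ⟨d, hd⟩ := AVLib.exists_dim (A := N₀)
  obtain ⟨c, -, hc⟩ := AVLib.exists_pow_mem_idComp (G := N)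
  letI : CommGroup (𝟙_ (Over (Spec (CommRingCat.of K))) ⟶ A) := Hom.commGroup
  letI : CommGroup (𝟙_ (Over (Spec (CommRingCat.of K))) ⟶ N₀) := Hom.commGroup
  let jh : (𝟙_ (Over (Spec (CommRingCat.of K))) ⟶ N₀) →* (𝟙_ (Over (Spec (CommRingCat.of K))) ⟶ A) :=
    { toFun := fun t => t ≫ j
      map_one' := MonObj.one_comp j
      map_mul' := fun s t => MonObj.mul_comp s t j }
  have hmem : ∀ (n : ℕ) (y : 𝟙_ (Over (Spec (CommRingCat.of K))) ⟶ A), y ^ l ^ n = 1 → y ∈ jh.range := by
    intro n y hy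
    obtain ⟨y', hy'⟩ := AVLib.exists_npow_eq (A := A) (l ^ c) (Nat.one_le_pow _ _ hl.out.pos) y
    have hy'k : y' ^ l ^ (c + n) = 1 := by rw [pow_add, pow_mul, hy', hy]
    obtain ⟨p, hp⟩ := h (c + n) y' hy'k
    obtain ⟨m, hm1, hmc, hm⟩ := hc p
    have hm' : y' ^ m ∈ jh.range := by
      haveI : AlgebraicGeometry.IsReduced (𝟙_ (Over (Spec (CommRingCat.of K)))).left :=
        inferInstanceAs (AlgebraicGeometry.IsReduced (Spec (CommRingCat.of K)))
      obtain ⟨q, hq⟩ := GrpHomLib.exists_lift_of_range i.left (p ^ m).left (by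
        rintro _ ⟨t, rfl⟩
        rw [hr, Subsingleton.elim (α := PrimeSpectrum K) t (IsLocalRing.closedPoint K)]
        exact hm)
      refine ⟨Over.homMk q (by rw [← Over.w i, ← Category.assoc, hq, Over.w]), ?_⟩
      have e : (Over.homMk q (by rw [← Over.w i, ← Category.assoc, hq, Over.w]) :
          𝟙_ (Over (Spec (CommRingCat.of K))) ⟶ N₀) ≫ i = p ^ m := by ext1; exact hq
      show _ ≫ i ≫ a = _
      rw [← Category.assoc, e, MonObj.pow_comp, hp]
    have := AVLib.pow_prime_pow_mem jh.range y' hl.out hm1 hmc hy'k hm'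
    rwa [hy'] at this
  have hn0 : ((l ^ 1 : ℕ) : K) ≠ 0 := by rwa [pow_one]
  obtain ⟨hf₀, hc₀⟩ := AVLib.natCard_pow_eq_one hd (l ^ 1) hn0
  obtain ⟨hf, hcA⟩ := AVLib.natCard_pow_eq_one hg (l ^ 1) hn0
  have hcard : (l ^ 1) ^ (2 * g) ≤ (l ^ 1) ^ (2 * d) := by
    rw [← hc₀, ← hcA]
    haveI := hf₀
    choose f hf' using fun y : {t : 𝟙_ (Over (Spec (CommRingCat.of K))) ⟶ A // t ^ l ^ 1 = 1} => hmem 1 y.1 y.2
    refine Nat.card_le_card_of_injective (fun y => (⟨f y, (cancel_mono j).1 ?_⟩ :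
      {t : 𝟙_ (Over (Spec (CommRingCat.of K))) ⟶ N₀ // t ^ l ^ 1 = 1})) fun y y' e => Subtype.ext ?_
    · have e1 : (f y) ≫ j = y.1 := hf' y
      rw [MonObj.pow_comp, MonObj.one_comp, e1, y.2]
    · exact (hf' y).symm.trans ((congrArg (fun t => jh t.1) e).trans (hf' y'))
  rw [pow_one, Nat.pow_le_pow_iff_right hl.out.one_lt] at hcard
  haveI : IsIntegral A.left := GeometricallyIntegral.isIntegral_of_subsingleton A.hom
  have hdg : d ≤ g := by
    have hle := j.left.isClosedEmbedding.isInducing.topologicalKrullDim_le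
    rw [hd, hg] at hle
    exact_mod_cast hle
  have hdim : topologicalKrullDim N₀.left = topologicalKrullDim A.left := by
    rw [hd, hg, show d = g by omega]
  haveI := AVLib.surjective_of_isFinite j hdim
  haveI : Surjective (i.left ≫ a.left) := inferInstanceAs (Surjective j.left)
  exact Surjective.of_comp i.left a.left

end Groth.Agent.AVPtsLib
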