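import Mathlib

/-!
# The Tate module functor on a short exact sequence with finite kernel
-/

set_option autoImplicit false

namespace Groth.Agent.AVPtsLib

variable {N A B : Type*} [AddCommGroup N] [AddCommGroup A] [AddCommGroup B]

/-- Compatible sequences of `l`-power torsion elements. -/
def seqs (M : Type*) [AddCommGroup M] (l : ℕ) : AddSubgroup (ℕ → M) where
  carrier := {x | (∀ n, (l ^ n) • x n = 0) ∧ ∀ n, l • x (n + 1) = x n}
  zero_mem' := ⟨fun _ => smul_zero _, fun _ => smul_zero _⟩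
  add_mem' := by
    rintro x y ⟨hx, hx'⟩ ⟨hy, hy'⟩
    exact ⟨fun n => by rw [Pi.add_apply, smul_add, hx, hy, add_zero],
      fun n => by rw [Pi.add_apply, Pi.add_apply, smul_add, hx', hy']⟩
  neg_mem' := by
    rintro x ⟨hx, hx'⟩
    exact ⟨fun n => by rw [Pi.neg_apply, smul_neg, hx, neg_zero],
      fun n => by rw [Pi.neg_apply, Pi.neg_apply, smul_neg, hx']⟩

theorem iterate_compat {M : Type*} [AddCommGroup M] {l : ℕ} {x : ℕ → M} (h : ∀ n, l • x (n + 1) = x n) (n : ℕ) :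
    ∀ v, l ^ v • x (n + v) = x n
  | 0 => by simp
  | v + 1 => by rw [pow_succ, mul_nsmul', ← Nat.add_assoc, h, iterate_compat h n v]

theorem exists_tate_coker [Finite N] (l : ℕ) [hl : Fact l.Prime] (i : N →+ A) (hi : Function.Injective i)
    (f : A →+ B) (hex : ∀ a, f a = 0 ↔ a ∈ i.range) (hf : Function.Surjective f)
    (hdiv : ∀ a : A, ∃ b, l • b = a) :
    (∀ x ∈ seqs A l, (∀ n, f (x n) = 0) → x = 0) ∧
    ∃ δ : seqs B l →+ N, (∀ y, δ y = 0 ↔ ∃ x ∈ seqs A l, ∀ n, f (x n) = y.1 n) ∧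
      ∀ ν, ν ∈ δ.range ↔ ∃ n, l ^ n • ν = 0 := by
  obtain ⟨v, m, hm, hc⟩ := Nat.exists_eq_pow_mul_and_not_dvd (Nat.card_pos (α := N)).ne' l hl.out.one_lt.ne'
  have hcop : Nat.Coprime (l ^ v) m := Nat.Coprime.pow_left _ (hl.out.coprime_iff_not_dvd.2 hm)
  obtain ⟨e, he1, he0⟩ := Nat.chineseRemainder hcop 1 0
  have hN : ∀ ν : N, Nat.card N • ν = 0 := fun ν => card_nsmul_eq_zero'
  have ha : ∀ ν : N, l ^ v • e • ν = 0 := fun ν => by
    obtain ⟨d, rfl⟩ := Nat.modEq_zero_iff_dvd.1 he0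
    rw [← mul_nsmul', ← mul_assoc, ← hc, mul_comm, mul_nsmul', hN, nsmul_zero]
  have hb : ∀ (ν : N) (n : ℕ), l ^ n • ν = 0 → l ^ v • ν = 0 ∧ e • ν = ν := fun ν n h => by
    have h1 : addOrderOf ν ∣ l ^ v := by
      refine (Nat.Coprime.dvd_of_dvd_mul_right ?_ (hc ▸ addOrderOf_dvd_iff_nsmul_eq_zero.2 (hN ν)))
      exact Nat.Coprime.coprime_dvd_left (addOrderOf_dvd_iff_nsmul_eq_zero.2 h)
        (Nat.Coprime.pow_left _ (hl.out.coprime_iff_not_dvd.2 hm))
    refine ⟨addOrderOf_dvd_iff_nsmul_eq_zero.1 h1, ?_⟩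
    conv_rhs => rw [← one_nsmul ν]
    exact nsmul_eq_nsmul_iff_modEq.2 (he1.of_dvd h1)
  have hdivN : ∀ (ν : N) (n : ℕ), e • ν = 0 → ∃ ν', l ^ n • ν' = ν := fun ν n h => by
    have hmν : m • ν = 0 := by
      have h2 := (hb (m • ν) v (by rw [← mul_nsmul', ← hc, hN])).2
      rw [← h2, smul_comm, h, nsmul_zero]
    obtain ⟨u, hu1, hu0⟩ := Nat.chineseRemainder (Nat.Coprime.pow_left n (hl.out.coprime_iff_not_dvd.2 hm)) 0 1
    obtain ⟨d, rfl⟩ := Nat.modEq_zero_iff_dvd.1 hu1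
    refine ⟨d • ν, ?_⟩
    rw [← mul_nsmul']
    conv_rhs => rw [← one_nsmul ν]
    exact nsmul_eq_nsmul_iff_modEq.2 (hu0.of_dvd (addOrderOf_dvd_iff_nsmul_eq_zero.2 hmν))
  have hβ : ∀ (y : seqs B l) (n : ℕ) (x : A), f x = y.1 n → ∃ ν, i ν = l ^ n • x := fun y n x hx =>
    (hex _).1 (by rw [map_nsmul, hx, y.2.1 n])
  choose lift hlift using hf
  choose β hβ' using hβ
  let δ0 : seqs B l → N := fun y => e • β y v (lift (y.1 v)) (hlift _)
  have hind : ∀ (y : seqs B l) (n : ℕ) (x : A) (ν : N), f x = y.1 (v + n) → i ν = l ^ (v + n) • x →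
      e • ν = δ0 y := by
    intro y n
    induction n with
    | zero =>
      intro x ν hx hν
      obtain ⟨ν0, hν0⟩ := (hex (x - lift (y.1 v))).1 (by rw [map_sub, hx, hlift, Nat.add_zero, sub_self])
      have h1 : ν = β y v (lift (y.1 v)) (hlift _) + l ^ v • ν0 := hi (by
        rw [map_add, map_nsmul, hν0, hβ', hν, Nat.add_zero, nsmul_sub, add_sub_cancel])
      rw [h1, nsmul_add, smul_comm e (l ^ v), ha, add_zero]
    | succ n ih =>
      intro x ν hx hν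
      refine ih (l • x) ν (by rw [map_nsmul, hx, ← Nat.add_assoc, y.2.2]) ?_
      rw [hν, ← Nat.add_assoc, pow_succ, mul_nsmul']
  let δ : seqs B l →+ N := AddMonoidHom.mk' δ0 fun y z => by
    refine (hind (y + z) 0 (lift (y.1 v) + lift (z.1 v)) (β y v _ (hlift _) + β z v _ (hlift _)) ?_ ?_).symm.trans
      (nsmul_add _ _ _)
    · rw [map_add, hlift, hlift]; rfl
    · rw [map_add, hβ', hβ', nsmul_add]; rfl
  refine ⟨fun x hx h => ?_, δ, fun y => ⟨fun hy => ?_, ?_⟩, fun ν => ⟨?_, ?_⟩⟩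
  · funext n
    obtain ⟨ν, hν⟩ := (hex _).1 (h (n + v))
    have h1 : l ^ (n + v) • ν = 0 := hi (by rw [map_nsmul, hν, hx.1, map_zero])
    rw [← iterate_compat hx.2 n v, ← hν, ← map_nsmul, (hb ν _ h1).1, map_zero]
    rfl
  · have hx : ∀ n, ∃ x, f x = y.1 (v + n) ∧ l ^ (v + n) • x = 0 := fun n => by
      obtain ⟨ν', hν'⟩ := hdivN (β y (v + n) _ (hlift _)) (v + n)
        ((hind y n _ _ (hlift _) (hβ' y (v + n) _ (hlift _))).trans hy)
      refine ⟨lift (y.1 (v + n)) - i ν', ?_, ?_⟩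
      · rw [map_sub, hlift, (hex (i ν')).2 ⟨ν', rfl⟩, sub_zero]
      · rw [nsmul_sub, ← map_nsmul, hν', hβ', sub_self]
    choose x hx1 hx2 using hx
    refine ⟨fun n => l ^ v • x n, ⟨fun n => ?_, fun n => ?_⟩, fun n => ?_⟩
    · rw [← mul_nsmul', ← pow_add, Nat.add_comm, hx2]
    · show l • l ^ v • x (n + 1) = l ^ v • x n
      obtain ⟨ν1, hν1⟩ := (hex (l • x (n + 1) - x n)).1 (by
        rw [map_sub, map_nsmul, hx1, hx1, ← Nat.add_assoc, y.2.2, sub_self])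
      have h1 : l ^ (v + n) • ν1 = 0 := hi (by
        rw [map_nsmul, hν1, nsmul_sub, hx2, sub_zero, ← mul_nsmul', ← pow_succ, Nat.add_assoc, hx2, map_zero])
      rw [smul_comm, ← sub_eq_zero, ← nsmul_sub, ← hν1, ← map_nsmul, (hb ν1 _ h1).1, map_zero]
    · show f (l ^ v • x n) = y.1 n
      rw [map_nsmul, hx1, Nat.add_comm, iterate_compat y.2.2]
  · rintro ⟨x, hx, hfx⟩
    refine (hind y 0 (x v) 0 (hfx v) ?_).symm.trans (nsmul_zero _)
    rw [map_zero, Nat.add_zero, hx.1]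
  · rintro ⟨y, rfl⟩
    exact ⟨v, ha _⟩
  · rintro ⟨n, hn⟩
    choose dv hdv using hdiv
    let x : ℕ → A := fun j => Nat.rec (i ν) (fun _ a => dv a) j
    have hx : ∀ j, l • x (j + 1) = x j := fun j => hdv (x j)
    refine ⟨⟨fun j => f (x j), fun j => ?_, fun j => by rw [← map_nsmul, hx]⟩, ?_⟩
    · rw [← map_nsmul]
      have := iterate_compat hx 0 j
      rw [Nat.zero_add] at this
      rw [this]
      exact (hex _).2 ⟨ν, rfl⟩
    · refine (hind _ 0 (x v) ν rfl ?_).symm.trans (hb ν n hn).2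
      have := iterate_compat hx 0 v
      rw [Nat.zero_add] at this
      rw [Nat.add_zero, this]; rfl

end Groth.Agent.AVPtsLib
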